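import Cfsg.Agent.RI.Two
import Cfsg.Agent.S2775

/-! Sylow 2-intersections of rank one: conclusion in the case of one component. -/
set_option autoImplicit false
set_option linter.unusedSectionVars false
open Subgroup Cfsg Cfsg.Agent.BG Cfsg.Agent.Invol Cfsg.Agent.LieM Cfsg.Agent.Sig
open scoped commutatorElement MatrixGroups

namespace Cfsg.Agent.RI
universe u
variable {G : Type u} {Y : Type*} [Group G] [Finite G] [Group Y] [Finite Y] {A L : Subgroup G} {a b c g x y z : G}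
  {S T : Sylow 2 G} {π : G →* Y}

theorem simple_case [IsSimpleGroup G] (hna : ¬ IsMulCommutative G) (h : CI G) (ne : S ≠ T) :
    IsCyclic ↥((S : Subgroup G) ⊓ T) := by
  have hi : ∀ a ∈ Z[(S : Subgroup G)], ∀ b ∈ Z[(S : Subgroup G)], a * a = 1 → b * b = 1 → Commute a b :=
    fun a ha b hb _ _ => mem_cent.1 hb.2 a ha.1
  rcases (Gold.kn_of_closed hna S (omega_ne_bot (S.isPGroup'.to_le inf_le_left) (center_nil_ne_bot (pgroup_nil S.isPGroup')
    (AB.sylow_ne_simple hna (sylowIn_top S)).1)) (omega_comm hi) (h.hc.sc S)).se_or_ab with ⟨M, hM⟩ | ab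
  · obtain ⟨t, Q, hQ⟩ := SE.bender_simple (SE.exists_not_comm hna) hM
    rw [show (S : Subgroup G) ⊓ T = ⊥ from eq_bot_iff.2 fun u hu => by_contra fun n => ne (tis_of_hyp hQ S T u n hu.1 hu.2)]
    infer_instance
  refine (SE.cyclic_or_quaternion (S.2.to_le inf_le_left) fun r => ne (h S T r)).resolve_right fun ⟨m, hm, ⟨e⟩⟩ => ?_
  obtain ⟨m, rfl⟩ := Nat.exists_eq_add_of_le' hm
  exact ((PGrp.mc_quaternion hm).map e.symm).not_comm (ab _ (S.2.to_le inf_le_left))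

theorem exists_k1 (h : CI G) (hO : Op' 2 (⊤ : Subgroup G) = ⊥) (hL : CompIn L ⊤) (hE : layerIn ⊤ = L)
    (hR : Op 2 (⊤ : Subgroup G) ≠ ⊥) (sj : Function.Surjective π) (hk : π.ker = C[L]) : ∃ z, K1 L z π := by
  obtain ⟨z, hz, z2⟩ := exists_invol_of_pgroup ((Op_pgroup 2 ⊤).to_le inf_le_left)
    (center_nil_ne_bot (pgroup_nil (Op_pgroup 2 ⊤)) hR)
  have u1 : U1 (Op 2 ⊤) z := fun t ht e => nf h hL.qs z2 e (mem_cent.1 hz.2 t ht).symm
    (le_cent1_iff.2 (O2_cent hL hz.1)) (le_cent1_iff.2 (O2_cent hL ht))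
  have zc : ∀ g, Commute z g := fun g => (mul_inv_eq_iff_eq_mul.1 ((u1 _ ((pcore_normal _ _).conj_mem (mem_top g) hz.1)
    (by rw [conj_mul, mul_self_of z2]; simp)).resolve_left (by simpa using ne_one_of z2))).symm
  have nl : L.Normal := (hE ▸ nE).normal
  refine ⟨z, h, nl, hL.qs, z2, zc, hz.1, u1, hk ▸ O2_cent hL, sj, hk, fun P => hk.le.trans ?_⟩
  by_cases r : SE.Rank2 ((P : Subgroup G) ⊓ (L ⊔ Op 2 ⊤))
  · refine le_trans ?_ (h.norm_le P r inf_le_left)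
    rw [group_modr (.inr (norm_of_normal _ _)) (O2_le P)]
    exact normsY (cents_norm (centS inf_le_right)) (le_top.trans (pcore_normal _ _).norm)
  have u2 := u1_of r ⟨O2_le P hz.1, mem_sup_right hz.1⟩ z2 zc
  obtain ⟨x, hx, x2, n⟩ := exq hL.qs (comp_syl hL P) fun e => r (e.mono (le_inf inf_le_right (inf_le_left.trans le_sup_left)))
  have l : Op 2 ⊤ ≤ zpowers z := by_contra fun m => by
    obtain ⟨r, hr, e⟩ := u1.four (Op_pgroup 2 ⊤) (mul_self_of z2) m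
    have := u2 (r * x) ⟨mul_mem (O2_le P hr) hx.2, mul_mem (mem_sup_right hr) (mem_sup_left hx.1)⟩ (by
      rw [(show Commute x r from mem_cent.1 (O2_cent hL hr) _ hx.1).mul_mul_mul_comm, e, (u2 _ ⟨mul_mem hx.2 hx.2,
        mem_sup_left (mul_mem hx.1 hx.1)⟩ (mul_self_of x2)).resolve_left (ne_one_of x2), mul_self_of z2])
    exact n ((mul_mem_cancel_left (O2_cent hL hr)).1 (this.elim (fun e => e ▸ one_mem _) fun e => e ▸ O2_cent hL hz.1))
  exact ((ThA.le_O2 hO (hE ▸ le_rfl) (cents_symm (l.trans (zpowers_le.2 (mem_cent.2 fun g _ => (zc g).symm))))).trans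
    (O2_le P)).trans (normG _)

/-- an elementary abelian subgroup of order eight -/
def E8 (A : Subgroup G) : Prop := ∃ a ∈ A, ∃ b ∈ A, ∃ c ∈ A, a * a = 1 ∧ b * b = 1 ∧ c * c = 1 ∧ Commute a b ∧ Commute a c ∧
  Commute b c ∧ a ≠ 1 ∧ b ≠ 1 ∧ c ≠ 1 ∧ a ≠ b ∧ a ≠ c ∧ b ≠ c ∧ a * b ≠ c

theorem K1.fin (h : K1 L z π) (hZ : Z[L] ≤ Op 2 ⊤) (hr : SE.Rank2 (S : Subgroup G)) (ne : S ≠ T)
    (nc : ¬ IsCyclic ↥((S : Subgroup G) ⊓ T)) :
    (∃ n, Nonempty (Op 2 (⊤ : Subgroup G) ≃* QuaternionGroup (2 ^ (n + 1)))) ∧ E8 (S : Subgroup G) := by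
  obtain ⟨un, ti, l⟩ := h.main hr
  haveI := h.nl
  haveI : (L.map π).Normal := h.nl.map π h.sj
  obtain ⟨_, hna, -⟩ := h.sp
  have eD : (S : Subgroup G) ⊓ T = Op 2 ⊤ := le_antisymm (fun d hd => by_contra fun n => by
    obtain ⟨k, hk⟩ := S.2 ⟨d, hd.1⟩
    obtain ⟨j, h1, h2⟩ := PLocal.exists_pow_not_mem (p := 2) (k := k) n
      (by rw [show d ^ 2 ^ k = 1 from congrArg Subtype.val hk]; exact one_mem _)
    have m := pow_mem hd (2 ^ j)
    have := mem_map_of_mem π (l m.1)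
    rw [Subgroup.map_sup, (Subgroup.map_eq_bot_iff _).2 h.RC, sup_bot_eq] at this
    have := un _ this (orderOf_two_iff.2 ⟨by rw [← map_mul, ← sq]; exact h.RC h2, fun e => h1 (h.CR m.1 e)⟩)
      (S.mapSurjective h.sj) (T.mapSurjective h.sj) (mem_map_of_mem π m.1) (mem_map_of_mem π m.2)
    exact ne (Sylow.ext (S.is_maximal' T.2 fun s hs => h.lift (S.2.to_le (zpowers_le.2 hs))
      ((congrArg (fun R : Sylow 2 Y => (R : Subgroup Y)) this).le (mem_map_of_mem π hs))).symm))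
    (le_inf (O2_le S) (O2_le T))
  obtain ⟨m, hm, ⟨e⟩⟩ := (SE.cyclic_or_quaternion (S.2.to_le inf_le_left) fun r => ne (h.ci S T r)).resolve_left nc
  obtain ⟨m, rfl⟩ := Nat.exists_eq_add_of_le' hm
  rw [eD] at e
  refine ⟨⟨m, ⟨e⟩⟩, ?_⟩
  have zz := mul_self_of h.z2
  obtain ⟨i, hi, j, hj, ii, jj, ij⟩ : ∃ i ∈ Op 2 (⊤ : Subgroup G), ∃ j ∈ Op 2 (⊤ : Subgroup G), i * i = z ∧ j * j = z ∧
      i * j = z * (j * i) := by
    obtain ⟨t, r, h1, h2, h3, -, h5⟩ := exists_of_equiv_quaternion e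
    have hr := (h5 r).2 ⟨1, .inl (by simp)⟩
    have e1 : r ^ 2 ^ (m + 1) = z := (h.u1 _ (pow_mem hr _) (by
      rw [← pow_add, ← two_mul, ← h3, pow_orderOf_eq_one])).resolve_left fun e => by
        have := Nat.le_of_dvd (by positivity) (h3 ▸ orderOf_dvd_of_pow_eq_one e)
        have := Nat.two_pow_pos (m + 1)
        omega
    have e2 : r ^ 2 ^ m * r ^ 2 ^ m = z := by rw [← pow_add, ← two_mul, ← pow_succ', e1]
    refine ⟨t, (h5 t).2 ⟨0, .inr (by simp)⟩, r ^ 2 ^ m, pow_mem hr _, h1.trans e1, e2, ?_⟩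
    rw [← mul_assoc, ← mul_inv_eq_iff_eq_mul, ← conj_pow, h2, inv_pow, inv_eq_iff_mul_eq_one, (h.zc _).eq, ← mul_assoc, e2, zz]
  have cR : ∀ r ∈ Op 2 (⊤ : Subgroup G), ∀ x ∈ L, Commute x r := fun r hr x hx => mem_cent.1 (h.ker.le (h.RC hr)) x hx
  have p1 : ∀ x, x = 1 ∨ x = z → π x = 1 := fun x e => e.elim (fun e => e ▸ map_one π) fun e => e ▸ h.RC h.zR
  have lZ : ∀ x ∈ L, π x = 1 → x = 1 ∨ x = z := fun x hx e => (Invol.mem_zpowers_invol zz).1 (by_contra fun n => by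
    obtain ⟨r, hr, e⟩ := (h.u1.mono hZ).four ((Op_pgroup 2 ⊤).to_le hZ) zz fun l => n (l ⟨hx, h.ker.le e⟩)
    have c : Commute (r * i) j := (h.u1 _ (mul_mem (hZ hr) hi) (by rw [(cR i hi r hr.1).symm.mul_mul_mul_comm, e, ii, zz])).elim
      (fun e => e ▸ Commute.one_left j) fun e => e ▸ h.zc j
    have := ((cR j hj r hr.1).inv_left.mul_left c).eq
    rw [inv_mul_cancel_left, ij] at this
    exact ne_one_of h.z2 (by simpa using this))
  obtain ⟨a, ha, b, hb, a2, b2, ab, c⟩ := rank2_map hna (S.mapSurjective h.sj)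
  obtain ⟨a, ha', rfl⟩ := h.ex ha.2 ha.1
  obtain ⟨b, hb', rfl⟩ := h.ex hb.2 hb.1
  obtain ⟨P⟩ : Nonempty (Sylow 2 (L.map π)) := inferInstance
  have sq : ∀ y ∈ L, orderOf (π y) = 2 → y * y = a * a := fun y hy y2 => by
    obtain ⟨⟨_, g, hg, rfl⟩, e⟩ := isConj_iff.1 (SE.isConj (ti.se hna P) (a := ⟨_, mem_map_of_mem π ha'.1⟩)
      (b := ⟨_, mem_map_of_mem π hy⟩) (by rwa [orderOf_mk]) (by rwa [orderOf_mk]))
    replace e : π g * π a * (π g)⁻¹ = π y := congrArg Subtype.val e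
    have c : Commute (a * a) g := (lZ _ (mul_mem ha'.1 ha'.1) (by rw [map_mul, mul_self_of a2])).elim
      (fun e => e ▸ Commute.one_left g) fun e => e ▸ h.zc g
    have e2 : g * a * g⁻¹ * (g * a * g⁻¹) = a * a := by rw [conj_mul, ← c.eq, mul_inv_cancel_right]
    rcases lZ (y * (g * a * g⁻¹)⁻¹) (mul_mem hy (inv_mem (mul_mem (mul_mem hg ha'.1) (inv_mem hg)))) (by
      rw [map_mul, map_inv, map_mul, map_mul, map_inv, e, mul_inv_cancel]) with r | r <;>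
        rw [mul_inv_eq_iff_eq_mul.1 r]
    · simpa using e2
    · rw [(h.zc _).symm.mul_mul_mul_comm, zz, one_mul, e2]
  have e1 := sq b hb'.1 b2
  have nab : π a * π b ≠ 1 := fun e => ab (by rwa [mul_eq_one_iff_eq_inv, inv_eq_of b2] at e)
  have e2 := sq _ (mul_mem ha'.1 hb'.1) (orderOf_two_iff.2 ⟨by
    rw [map_mul, c.symm.mul_mul_mul_comm, mul_self_of a2, mul_self_of b2, one_mul], by rwa [map_mul]⟩)
  have K : ∀ r ∈ Op 2 (⊤ : Subgroup G), ∀ s ∈ Op 2 (⊤ : Subgroup G), a * r * (a * r) = 1 → b * s * (b * s) = 1 →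
      Commute (a * r) (b * s) → E8 (S : Subgroup G) := fun r hr s hs h1 h2 h3 => by
    have f1 : π (a * r) = π a := by rw [map_mul, h.RC hr, mul_one]
    have f2 : π (b * s) = π b := by rw [map_mul, h.RC hs, mul_one]
    exact ⟨_, mul_mem ha'.2 (O2_le S hr), _, mul_mem hb'.2 (O2_le S hs), z, O2_le S h.zR, h1, h2, zz, h3, (h.zc _).symm,
      (h.zc _).symm, fun e => ne_one_of a2 (f1 ▸ p1 _ (.inl e)), fun e => ne_one_of b2 (f2 ▸ p1 _ (.inl e)), ne_one_of h.z2,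
      fun e => ab (by rw [← f1, ← f2, e]), fun e => ne_one_of a2 (f1 ▸ p1 _ (.inr e)),
      fun e => ne_one_of b2 (f2 ▸ p1 _ (.inr e)), fun e => nab (by rw [← f1, ← f2, ← map_mul]; exact p1 _ (.inr e))⟩
  rcases lZ _ (mul_mem ha'.1 ha'.1) (by rw [map_mul, mul_self_of a2]) with r | r <;> rw [r] at e1 e2
  · exact K 1 (one_mem _) 1 (one_mem _) (by simpa) (by simpa) (by simpa using commute_of_mul_sq r e1 e2)
  · refine K i hi j hj (by rw [(cR i hi a ha'.1).symm.mul_mul_mul_comm, r, ii, zz])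
      (by rw [(cR j hj b hb'.1).symm.mul_mul_mul_comm, e1, jj, zz]) ?_
    have : a * b = z * (b * a) := by
      calc _ = a * a * (a⁻¹ * (b * b) * b⁻¹) := by group
        _ = z * (a⁻¹ * (a * b * (a * b)) * b⁻¹) := by rw [r, e1, e2]
        _ = _ := by group
    show a * i * (b * j) = b * j * (a * i)
    rw [(cR i hi b hb'.1).symm.mul_mul_mul_comm, (cR j hj a ha'.1).symm.mul_mul_mul_comm, this, ij,
      (h.zc _).symm.mul_mul_mul_comm, zz, one_mul]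

end Cfsg.Agent.RI
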