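import Cfsg.Agent.RI.X
import Cfsg.Agent.GW.Cov
import Cfsg.Agent.Small.L2Cent
import Cfsg.Agent.Classical.SL2Torus

/-! Sylow 2-intersections of rank one: the case of two components. -/
set_option autoImplicit false
set_option linter.unusedSectionVars false
open Subgroup Cfsg Cfsg.Agent.BG Cfsg.Agent.Invol Cfsg.Agent.LieM Cfsg.Agent.Sig
open scoped commutatorElement MatrixGroups

namespace Cfsg.Agent.RI
variable {G : Type*} [Group G] [Finite G] {A L M N : Subgroup G} {a b c d g t u v w x y z : G} {S : Sylow 2 G}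

theorem nE : layerIn ⊤ ⊴ (⊤ : Subgroup G) := ⟨le_top, le_normalizer_layerIn (normG ⊤)⟩

theorem comp_syl (hL : CompIn L ⊤) (S : Sylow 2 G) : SylowIn 2 (L ⊓ S) L := by
  have := Sylow_setI_normal ⟨hL.le_layerIn, hL.layerIn_le_normalizer⟩ (Sylow_setI_normal nE (sylowIn_top S))
  rwa [← inf_assoc, inf_eq_left.2 hL.le_layerIn] at this

theorem O2_cent (hL : CompIn L ⊤) : Op 2 ⊤ ≤ C[L] := by
  rw [Op_eq]; exact cents_symm (hL.le_layerIn.trans (commG1.1 commutator_layerIn_pcIn))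

theorem ZL_le (hO : Op' 2 (⊤ : Subgroup G) = ⊥) (hL : CompIn L ⊤) : Z[L] ≤ Op 2 ⊤ :=
  ThA.le_O2 hO hL.center_le_centralizer_layerIn (inf_le_left.trans (cents_symm (O2_cent hL)))

structure K2 (L M : Subgroup G) (z : G) : Prop where
  ci : CI G
  hO : Op' 2 (⊤ : Subgroup G) = ⊥
  cL : CompIn L ⊤
  cM : CompIn M ⊤
  ne : L ≠ M
  z2 : orderOf z = 2
  zc : ∀ g, Commute z g
  R : Op 2 ⊤ ≤ zpowers z
  xL : ∀ S : Sylow 2 G, ∃ x ∈ L ⊓ S, x * x = z
  xM : ∀ S : Sylow 2 G, ∃ x ∈ M ⊓ S, x * x = z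

theorem exists_k2 (h : CI G) (hO : Op' 2 (⊤ : Subgroup G) = ⊥) (hL : CompIn L ⊤) (hM : CompIn M ⊤) (ne : L ≠ M) :
    ∃ z, K2 L M z := by
  have k : ∀ L M : Subgroup G, CompIn L ⊤ → CompIn M ⊤ → L ≠ M → ∀ S : Sylow 2 G, ∃ x ∈ L ⊓ S, orderOf (x * x) = 2 ∧
      x ∉ C[L] ∧ x * x ∈ Op 2 (⊤ : Subgroup G) := fun L M hL hM ne S => by
    have c : L ≤ C[M] := commG1.1 (hL.commutator_eq_bot_of_ne hM ne)
    have r : ¬ SE.Rank2 L := fun ⟨a, ha, b, hb, a2, b2, ab, e⟩ => (nf h hM.qs a2 (mul_self_of b2) e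
      (le_cent1_iff.2 (c ha)) (le_cent1_iff.2 (c hb))).elim (ne_one_of b2) ab.symm
    obtain ⟨x, hx, x2, n⟩ := exq hL.qs (comp_syl hL S) fun e => r (e.mono inf_le_left)
    refine ⟨x, hx, x2, n, ZL_le hO hL ⟨mul_mem hx.1 hx.1, mem_cent.2 fun g hg => ?_⟩⟩
    have := pcoreS_normal _ nE (pcoreS_normal _ ⟨hL.le_layerIn, hL.layerIn_le_normalizer⟩
      (SE.rank1_comm r (mul_mem hx.1 hx.1) x2 hg))
    exact (commutatorElement_eq_one_iff_mul_comm.1 (mem_bot.1 (hO.le this))).symm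
  obtain ⟨S⟩ : Nonempty (Sylow 2 G) := inferInstance
  obtain ⟨y, hy, y2, yn, yR⟩ := k M L hM hL ne.symm S
  have u1 : U1 (Op 2 ⊤) (y * y) := fun t ht e => nf h hL.qs y2 e (mem_cent.1 (O2_cent hM ht) _ (mul_mem hy.1 hy.1))
    (le_cent1_iff.2 (O2_cent hL yR)) (le_cent1_iff.2 (O2_cent hL ht))
  have u2 : ∀ t ∈ Op 2 (⊤ : Subgroup G), orderOf t = 2 → t = y * y := fun t ht e =>
    (u1 t ht (mul_self_of e)).resolve_left (ne_one_of e)
  have c : M ≤ C[L] := commG1.1 (hM.commutator_eq_bot_of_ne hL ne.symm)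
  have zc : ∀ g, Commute (y * y) g := fun g => (mul_inv_eq_iff_eq_mul.1 (u2 _ ((pcore_normal _ _).conj_mem (mem_top g) yR)
    (by rw [Invol.orderOf_conj', y2]))).symm
  refine ⟨y * y, h, hO, hL, hM, ne, y2, zc, by_contra fun n => ?_, fun S => (k L M hL hM ne S).imp fun x m =>
    ⟨m.1, u2 _ m.2.2.2 m.2.1⟩, fun S => (k M L hM hL ne.symm S).imp fun x m => ⟨m.1, u2 _ m.2.2.2 m.2.1⟩⟩
  obtain ⟨r, hr, e⟩ := u1.four (Op_pgroup 2 ⊤) (mul_self_of y2) n
  have := nf h hL.qs y2 (b := r * y) (by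
    rw [(show Commute y r from mem_cent.1 (O2_cent hM hr) _ hy.1).mul_mul_mul_comm, e, mul_self_of y2]) (zc _)
    (le_cent1_iff.2 (O2_cent hL yR)) (le_cent1_iff.2 (mul_mem (O2_cent hL hr) (c hy.1)))
  exact yn ((mul_mem_cancel_left (O2_cent hM hr)).1 (this.elim (fun e => e ▸ one_mem _) fun e => e ▸ O2_cent hM yR))

namespace K2
variable (h : K2 L M z)
include h

theorem symm : K2 M L z := ⟨h.ci, h.hO, h.cM, h.cL, h.ne.symm, h.z2, h.zc, h.R, h.xM, h.xL⟩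
theorem cc : M ≤ C[L] := commG1.1 (h.cM.commutator_eq_bot_of_ne h.cL h.ne.symm)
theorem zC (A : Subgroup G) : zpowers z ≤ C[A] := zpowers_le.2 (mem_cent.2 fun g _ => (h.zc g).symm)
theorem zS (S : Sylow 2 G) : z ∈ L ⊓ S := let ⟨_, hx, e⟩ := h.xL S; e ▸ mul_mem hx hx
theorem nz (e : x * x = z) : x ∉ zpowers z := fun m => ne_one_of h.z2 (by
  rcases (Invol.mem_zpowers_invol (mul_self_of h.z2)).1 m with rfl | rfl
  exacts [e.symm.trans (mul_one 1), mul_right_cancel (e.trans (one_mul _).symm)])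
theorem ZL : Z[L] ≤ zpowers z := (ZL_le h.hO h.cL).trans h.R

theorem inv (hx : x ∈ L) (hy : y ∈ M) (ex : x * x = z) (ey : y * y = z) : x * y * (x * y) = 1 ∧ ¬ (x * y = 1 ∨ x * y = z) :=
  ⟨by rw [(show Commute y x from (mem_cent.1 (h.cc hy) x hx).symm).mul_mul_mul_comm, ex, ey, mul_self_of h.z2],
    fun e => h.nz ex (h.ZL ⟨hx, (mul_mem_cancel_right (h.cc hy)).1
      (e.elim (fun e => e ▸ one_mem _) fun e => e ▸ h.zC L (mem_zpowers z))⟩)⟩

theorem only (hN : CompIn N ⊤) : N = L ∨ N = M := by_contra fun n => by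
  obtain ⟨S⟩ : Nonempty (Sylow 2 G) := inferInstance
  obtain ⟨x, hx, ex⟩ := h.xL S
  obtain ⟨y, hy, ey⟩ := h.xM S
  exact (h.inv hx.1 hy.1 ex ey).2 (nf h.ci hN.qs h.z2 (h.inv hx.1 hy.1 ex ey).1 (h.zc _) (fun g _ => mem_cent1.2 (h.zc g).symm)
    (le_cent1_iff.2 (mul_mem (commG1.1 (h.cL.commutator_eq_bot_of_ne hN fun e => n (.inl e.symm)) hx.1)
      (commG1.1 (h.cM.commutator_eq_bot_of_ne hN fun e => n (.inr e.symm)) hy.1))))

theorem layer : layerIn ⊤ = L ⊔ M := le_antisymm (layerIn_le_iff.2 fun _ hN =>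
  (h.only hN).elim (fun e => e.le.trans le_sup_left) fun e => e.le.trans le_sup_right) (sup_le h.cL.le_layerIn h.cM.le_layerIn)

theorem swap (g : G) : cj g L = L ∧ cj g M = M ∨ cj g L = M ∧ cj g M = L := by
  have h1 : cj g L = L ∨ cj g L = M := h.only (h.cL.conj (normG _ trivial))
  have h2 : cj g M = L ∨ cj g M = M := h.only (h.cM.conj (normG _ trivial))
  have : cj g L ≠ cj g M := fun e => h.ne (cj_inj.1 e)
  rcases h1 with e | e <;> rcases h2 with f | f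
  exacts [absurd (e.trans f.symm) this, .inl ⟨e, f⟩, .inr ⟨e, f⟩, absurd (e.trans f.symm) this]

theorem star (hw : w ∈ L ⊓ S) (e : w * w = z) (hg : g ∈ L) (m : g * w * g⁻¹ ∈ (S : Subgroup G)) : g ∈ N[(S : Subgroup G)] := by
  obtain ⟨y, hy, ey⟩ := h.xM S
  obtain ⟨h1, h2⟩ := h.inv (mul_mem (mul_mem hg hw.1) (inv_mem hg)) hy.1 (by
    rw [conj_mul, e, ← (h.zc g).eq, mul_inv_cancel_right]) ey
  refine BG.mem_norm.2 (congrArg (fun R : Sylow 2 G => (R : Subgroup G)) (h.ci (MulAut.conj g • S) S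
    ⟨z, ⟨(h.zS _).2, (h.zS S).2⟩, _, ⟨?_, mul_mem m hy.2⟩, h.z2, orderOf_two_iff.2 ⟨h1, fun r => h2 (.inl r)⟩,
      fun r => h2 (.inr r.symm), h.zc _⟩))
  rw [← conj_eq_of_cent (h.symm.cc hg) hy.1, conj_mul]
  exact conj_mem_cj g (mul_mem hw.2 hy.2)

theorem half {Y : Type*} [Group Y] [Finite Y] {π : G →* Y} (hk : π.ker = zpowers z) (S : Sylow 2 G) :
    Nonempty (L ≃* SL(2, ZMod 5)) ∧ ∀ s ∈ (S : Subgroup G) ⊓ N[L], ∃ q ∈ L, q⁻¹ * s ∈ C[L] := by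
  have zz := mul_self_of h.z2
  have k1 : ∀ x, π x = 1 ↔ x = 1 ∨ x = z := fun x => by rw [← Invol.mem_zpowers_invol zz, ← hk]; rfl
  obtain ⟨_, hna, hC⟩ := map_simple (π := π) h.cL.qs (inf_le_left.trans (hk.le.trans (h.zC L))) (h.ZL.trans hk.ge)
  have u1 : U1 L z := fun t ht e => nf h.ci h.cM.qs h.z2 e (h.zc t) (fun g _ => mem_cent1.2 (h.zc g).symm)
    (le_cent1_iff.2 (h.symm.cc ht))
  have lf : ∀ x, π x ∈ (L ⊓ S).map π → x ∈ L ⊓ S := fun x e => by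
    rwa [← mem_comap, comap_map_eq, hk, sup_eq_left.2 (zpowers_le.2 (h.zS S))] at e
  have sq : ∀ x ∈ L, orderOf (π x) = 2 → x * x = z := fun x hx e =>
    ((k1 _).1 (by rw [map_mul, mul_self_of e])).resolve_left fun r => ne_one_of e ((k1 _).2 (u1 x hx r))
  have hP := pHall_map π (comp_syl h.cL S)
  obtain ⟨T, hT⟩ := sylow_of_sylowIn hP
  have mT : ∀ x : L.map π, x ∈ (T : Subgroup _) ↔ (x : Y) ∈ (L ⊓ S).map π := fun x =>
    hT ▸ (mem_map_iff_mem (subtype_injective _)).symm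
  have st : ∀ w ∈ (L ⊓ S).map π, orderOf w = 2 → ∀ g ∈ L, π g * w * (π g)⁻¹ ∈ (L ⊓ S).map π → g ∈ N[(S : Subgroup G)] := by
    rintro _ ⟨w, hw, rfl⟩ w2 g hg m
    exact h.star hw (sq w hw.1 w2) hg (lf _ (by simpa using m)).2
  have ti : TIS (L.map π) := tis_of T fun u hu u1 U hU hc => le_sylow hU (by
    rintro ⟨_, g, hg, rfl⟩ m
    obtain ⟨v, hv, v2⟩ := exists_invol_mem_of_isPGroup (T.isPGroup'.to_le (zpowers_le.2 hu)) (by simpa)
    have m1 := (mT v).1 (zpowers_le.2 hu hv)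
    have := st _ m1 (by rwa [orderOf_coe]) g hg (by
      rwa [show π g * v * (π g)⁻¹ = v from congrArg Subtype.val (conj_eq_of_cent (C_zpowers u ▸ hc m) hv)])
    refine mem_norm_of_cj_le ?_
    rintro _ ⟨x, hx, rfl⟩
    obtain ⟨y, hy, e⟩ := (mT x).1 hx
    exact (mT _).2 ⟨_, conj_mem_of_norm (normsI (zpowers_le.2 (normG L hg)) (zpowers_le.2 this) (mem_zpowers g)) hy, by simp [e]⟩)
  obtain ⟨t, ht⟩ := ti.hyp hna T
  obtain ⟨⟨_, a, aL, rfl⟩, ha, ⟨_, b, bL, rfl⟩, hb, a2, b2, ab, -⟩ := rank2_of_simple hna T (A := T) fun x hx _ => hx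
  have cm : ∀ a ∈ (T : Subgroup (L.map π)), orderOf a = 2 → ∀ c ∈ L ⊓ S, Commute (π c) a := fun a ha a2 c hc =>
    congrArg Subtype.val (ht.Q0_comm (Suz.mem_Q0_of ha (mul_self_of a2)) (y := ⟨_, mem_map_of_mem π hc.1⟩)
      ((mT _).2 (mem_map_of_mem π hc))).symm.eq
  have f4 := fun c => (u1.mono (inf_le_left : L ⊓ S ≤ L)).lq (c := c) (comp_syl h.cL S).pg h.z2 h.zc π (fun x _ => k1 x)
    (lf _ ((mT _).1 ha)) (lf _ ((mT _).1 hb)) ((orderOf_coe _).trans a2) ((orderOf_coe _).trans b2)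
    (fun e => ab (Subtype.ext e)) fun c hc => ⟨cm _ ha a2 c hc, cm _ hb b2 c hc⟩
  have c4 : #(T : Subgroup (L.map π)) ≤ 4 := by
    rw [← card_map_of_injective (subtype_injective _), hT]
    exact card_le_four (by rintro _ ⟨c, hc, rfl⟩; exact f4 c hc)
  constructor
  · obtain ⟨F, _, _, n, hn, hF, hQ, ⟨e⟩⟩ | ⟨F, _, _, n, hn, -, hQ, -⟩ | ⟨F, _, _, n, hn, -, hQ, -⟩ := ht.suzuki_simple <;>
      rw [hQ] at c4
    · obtain ⟨f⟩ := Small.psl4_equiv (F := F) (by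
        rw [Nat.card_eq_fintype_card, hF]; exact le_antisymm c4 (Nat.pow_le_pow_right two_pos hn))
      haveI : Group.IsPerfect L := (isQuasisimple_iff.1 h.cL.qs).2.1
      have ek : ((e.trans f).toMonoidHom.comp (π.subgroupMap L)).ker = (zpowers z).subgroupOf L := by
        ext x; simp [← hk, mem_subgroupOf, Subtype.ext_iff]
      exact GW.equiv_SL2_of_double (ξ := (e.trans f).toMonoidHom.comp (π.subgroupMap L)) (by decide) (by simp)
        ⟨(e.trans f).surjective.comp (π.subgroupMap_surjective L),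
        fun x hx => mem_center_iff.2 fun y => Subtype.ext (mem_cent.1 (h.zC L (ek.le hx)) y y.2)⟩ (by
          rw [ek, Nat.card_congr (subgroupOfEquivOfLe (zpowers_le.2 (h.zS S).1)).toEquiv, Nat.card_zpowers, h.z2])
    · have := Nat.pow_le_pow_left (Nat.pow_le_pow_right two_pos (show 2 ≤ 2 * n + 1 by omega)) 2; omega
    · have := Nat.pow_le_pow_left (Nat.pow_le_pow_right two_pos hn) 3; omega
  have n0 : (S : Subgroup G) ⊓ N[L] ≤ N[L ⊓ S] := normsI inf_le_right (inf_le_left.trans (normG _))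
  have l0 : L ⊓ S ≤ (S : Subgroup G) ⊓ N[L] := le_inf inf_le_right (inf_le_left.trans (normG _))
  have p0 := (S.2.to_le (inf_le_left : (S : Subgroup G) ⊓ N[L] ≤ _)).map π
  obtain ⟨w, hw, w2⟩ := exists_invol_of_pgroup (p0.to_le (inf_le_right.trans inf_le_left)) (meet_center_nil
    (pgroup_nil p0) ⟨map_mono l0, norms_map π le_rfl |>.trans' (map_mono n0)⟩ fun e => ne_one_of a2 (Subtype.ext
      (mem_bot.1 (e ▸ (mT _).1 ha))))
  have h0 : ∀ a ∈ (T : Subgroup (L.map π)), orderOf a = 2 → (a : Y) ∈ C[((S : Subgroup G) ⊓ N[L]).map π] :=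
    fun a ha a2 => by
      obtain ⟨⟨_, g, hg, rfl⟩, rfl⟩ := isConj_iff.1 (SE.isConj (ti.se hna T) (a := ⟨w, map_mono inf_le_left hw.1⟩)
        (by rwa [orderOf_mk]) a2)
      exact conj_mem_of_norm (norms_cent (norms_map π le_rfl) (mem_map_of_mem π (normsI (zpowers_le.2
        (st w hw.1 w2 g hg ((mT _).1 ha))) (zpowers_le.2 (normG _ (normG L hg))) (mem_zpowers g)))) hw.2.2
  have c0 : ((S : Subgroup G) ⊓ N[L]).map π ≤ C[(L ⊓ S).map π] := cents_symm (by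
    rintro _ ⟨c, hc, rfl⟩
    rcases f4 c hc with e | e | e | e <;> rw [e]
    exacts [one_mem _, h0 _ ha a2, h0 _ hb b2, mul_mem (h0 _ ha a2) (h0 _ hb b2)])
  intro s hs
  obtain ⟨_, ⟨q, hq, rfl⟩, c, hc, e⟩ := (mem_sup_normr (cents_norm (cents_symm (centS (map_mono inf_le_left))))).1
    (ThA.inner_of hna hP ((map_mono l0).trans c0) p0 ((map_mono inf_le_right).trans (norms_map π le_rfl)) c0
      (mem_map_of_mem π hs))
  exact ⟨q, hq.1, hC _ (mul_mem (inv_mem (normG L hq.1)) hs.2) (by rwa [map_mul, map_inv, e, inv_mul_cancel_left])⟩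

theorem main : (Odd (L ⊔ M).index ∨ ∃ k, Odd k ∧ (L ⊔ M).index = 2 * k) ∧ (L ⊔ M).Normal ∧
    ∃ (Z : Subgroup (SL(2, ZMod 5) × SL(2, ZMod 5))) (_ : Z.Normal), Z = zpowers (-1, -1) ∧
      Nonempty (↥(L ⊔ M) ≃* (SL(2, ZMod 5) × SL(2, ZMod 5)) ⧸ Z) := by
  obtain ⟨S⟩ : Nonempty (Sylow 2 G) := inferInstance
  haveI : (zpowers z).Normal := ⟨fun x hx g => by rwa [conj_eq_of_cent (cents_symm (h.zC ⊤) (mem_top g)) hx]⟩
  obtain ⟨⟨e⟩, h1⟩ := h.half (QuotientGroup.ker_mk' _) S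
  obtain ⟨⟨f⟩, h2⟩ := h.symm.half (QuotientGroup.ker_mk' _) S
  haveI nl : (L ⊔ M).Normal := (h.layer ▸ nE).normal
  have l : (S : Subgroup G) ⊓ N[L] ≤ L ⊔ M := fun s hs => by
    obtain ⟨q, hq, c1⟩ := h1 s hs
    obtain ⟨r, hr, c2⟩ := h2 s ⟨hs.1, BG.mem_norm.2 ((h.swap s).resolve_right fun e =>
      h.ne ((cj_of_norm hs.2).symm.trans e.1)).2⟩
    have : r⁻¹ * (q⁻¹ * s) ∈ C[layerIn ⊤] := h.layer ▸ zpowers_le.1 (le_cent_sup (zpowers_le.2 (mul_mem (inv_mem (h.cc hr)) c1))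
      (zpowers_le.2 (by
        rw [← mul_assoc, ← mem_cent.1 (h.cc (inv_mem hr)) _ (inv_mem hq), mul_assoc]
        exact mul_mem (inv_mem (h.symm.cc hq)) c2)))
    have := zpowers_le.2 (h.zS S).1 (h.R (ThA.le_O2 h.hO (zpowers_le.2 this) (cents_symm (h.R.trans (h.zC _)))
      (mem_zpowers _)))
    exact (mul_mem_cancel_left (inv_mem (mem_sup_left hq))).1 ((mul_mem_cancel_left (inv_mem (mem_sup_right hr))).1
      (mem_sup_left this))
  refine ⟨?_, nl, ?_⟩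
  · have i1 : (L ⊔ M).relIndex S ∣ 2 := relIndex_dvd_two_iff.2 (by
      by_cases r : (S : Subgroup G) ≤ N[L]
      · exact ⟨1, one_mem _, fun b hb => .inr (l ⟨hb, r hb⟩)⟩
      obtain ⟨a, ha, n⟩ := SetLike.not_le_iff_exists.1 r
      refine ⟨a, ha, fun b hb => ((h.swap b).imp (fun e => l ⟨hb, BG.mem_norm.2 e.1⟩) fun e => l ⟨mul_mem hb ha,
        BG.mem_norm.2 ?_⟩).symm⟩
      rw [cj_mul, ((h.swap a).resolve_left fun e => n (BG.mem_norm.2 e.1)).1, e.2])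
    have i2 : Odd ((S : Subgroup G) ⊔ (L ⊔ M)).index :=
      Nat.not_even_iff_odd.1 fun r => S.not_dvd_index (r.two_dvd.trans (index_dvd_of_le le_sup_left))
    rw [← relIndex_mul_index (le_sup_right : L ⊔ M ≤ (S : Subgroup G) ⊔ (L ⊔ M)), relIndex_sup_right]
    exact ((Nat.dvd_prime Nat.prime_two).1 i1).imp (fun e => by rwa [e, one_mul]) fun e => ⟨_, i2, by rw [e]⟩
  have k : ∀ {L : Subgroup G} (e : L ≃* SL(2, ZMod 5)) (hz : z ∈ L), (e.symm (-1) : G) = z := fun e hz => by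
    rw [← (Classical.sl_mem_center_iff'.1 (mem_center_iff.2 fun g => by
      rw [← e.apply_symm_apply g, ← map_mul, ← map_mul]
      exact congrArg e (Subtype.ext (h.zc _).symm.eq) : e ⟨z, hz⟩ ∈ _)).resolve_left fun r => ne_one_of h.z2
        (congrArg Subtype.val (e.map_eq_one_iff.1 r)), e.symm_apply_apply]
  have e1 := k e (h.zS S).1
  have e2 := k f (h.symm.zS S).1
  let ψ := ((L.subtype.comp e.symm.toMonoidHom).noncommCoprod (M.subtype.comp f.symm.toMonoidHom) fun a b =>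
    mem_cent.1 (h.cc (f.symm b).2) _ (e.symm a).2).codRestrict (L ⊔ M) fun x => mul_mem_sup (e.symm x.1).2 (f.symm x.2).2
  have eψ : ∀ x, (ψ x : G) = e.symm x.1 * f.symm x.2 := fun _ => rfl
  have hk : ψ.ker = zpowers (-1, -1) := by
    refine le_antisymm (fun x hx => ?_) (zpowers_le.2 (Subtype.ext (by rw [eψ, e1, e2]; exact mul_self_of h.z2)))
    have r : (e.symm x.1 : G) * f.symm x.2 = 1 := congrArg Subtype.val hx
    rcases (Invol.mem_zpowers_invol (mul_self_of h.z2)).1 (h.ZL ⟨(e.symm x.1).2,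
      eq_inv_of_mul_eq_one_left r ▸ C[L].inv_mem (h.cc (f.symm x.2).2)⟩) with r1 | r1 <;> rw [r1] at r
    · rw [show x = 1 from Prod.ext (e.symm.map_eq_one_iff.1 (Subtype.ext r1))
        (f.symm.map_eq_one_iff.1 (Subtype.ext (by simpa using r)))]
      exact one_mem _
    · rw [show x = (-1, -1) from Prod.ext (e.symm.injective (Subtype.ext (r1.trans e1.symm)))
        (f.symm.injective (Subtype.ext (by rw [e2, eq_inv_of_mul_eq_one_right r, inv_eq_of h.z2])))]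
      exact mem_zpowers _
  refine ⟨_, inferInstance, hk, isog_of_surj ψ (QuotientGroup.mk' _) (fun ⟨x, hx⟩ => ?_) (QuotientGroup.mk'_surjective _)
    (QuotientGroup.ker_mk' _).symm⟩
  obtain ⟨a, ha, b, hb, rfl⟩ := (mem_sup_norml (cents_norm h.cc)).1 hx
  exact ⟨(e ⟨a, ha⟩, f ⟨b, hb⟩), Subtype.ext (by simp [eψ])⟩

end K2
end Cfsg.Agent.RI
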