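import Cfsg.Agent.RI.Y
import Cfsg.Agent.ThA.Red
import Cfsg.Agent.ThA.Pf
import Cfsg.Agent.ABG.SL23
import Cfsg.Agent.FG.Three
import Cfsg.Agent.ASI.Ess

/-! Sylow 2-intersections of rank one: the case of one component. -/
set_option autoImplicit false
set_option linter.unusedSectionVars false
open Subgroup Cfsg Cfsg.Agent.BG Cfsg.Agent.Invol Cfsg.Agent.LieM Cfsg.Agent.Sig
open scoped commutatorElement

namespace Cfsg.Agent.RI
variable {G Y : Type*} [Group G] [Finite G] [Group Y] [Finite Y] {A L Q : Subgroup G} {a b c d g t u v y z : G}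
  {S : Sylow 2 G} {π : G →* Y}

theorem le_sylow (hA : IsPGroup 2 A) (h : A ≤ N[(S : Subgroup G)]) : A ≤ S :=
  sub_Hall_of_norm (sylowIn_top S) le_top hA.pi (.inl h)

theorem not_le_norm (hL : IsQuasisimple L) : ¬ L ≤ N[(S : Subgroup G)] := fun l =>
  let ⟨_, hU⟩ := Sylow_exists 2 L
  qs_not_le_solvable hL (pgroup_sol S.2) (ThA.perf_le (qs_perfect hL) hU l (le_sylow hU.pg (hU.le.trans l)))

theorem pg_invol (e : t * t = 1) : IsPGroup 2 (zpowers t) := pg_zpowers_iff.2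
  (((Nat.dvd_prime_pow Nat.prime_two (m := 1)).1 (orderOf_dvd_of_pow_eq_one (by simpa [sq]))).imp fun _ => And.right)

theorem nf (h : CI G) (hL : IsQuasisimple L) (a2 : orderOf a = 2) (b2 : b * b = 1) (c : Commute a b)
    (ha : L ≤ C1[a]) (hb : L ≤ C1[b]) : b = 1 ∨ b = a := by_contra fun n => by
  obtain ⟨P, hP⟩ := (pgroup_sup (.inr (cents_norm (zpowers_le.2 (C_zpowers a ▸ mem_cent1.2 c.symm.eq))))
    (pg_invol (mul_self_of a2)) (pg_invol b2)).exists_le_sylow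
  exact not_le_norm hL ((cents_norm (cents_symm (sup_le (zpowers_le.2 (le_cent1_iff.1 ha))
    (zpowers_le.2 (le_cent1_iff.1 hb))))).trans (h.norm_le P ⟨a, mem_sup_left (mem_zpowers a), b, mem_sup_right (mem_zpowers b),
      a2, orderOf_two_iff.2 ⟨b2, fun e => n (.inl e)⟩, fun e => n (.inr e.symm), c⟩ hP))

theorem exq (hL : IsQuasisimple L) (hQ : SylowIn 2 Q L) (h : ¬ SE.Rank2 Q) : ∃ x ∈ Q, orderOf (x * x) = 2 ∧ x ∉ C[L] := by
  rcases SE.cyclic_or_quaternion hQ.pg h with hc | ⟨m, hm, ⟨e⟩⟩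
  · have := cyclic_pdiv_normal_complement hQ (fun q hq _ => hq.two_le) hc
    exact absurd (series_sol this.normal (SE.sol_of_odd (pnat_odd.1 (pcore_pgroup _ _)))
      (isog_sol this.isog (pgroup_sol hQ.pg))) (qs_not_isSolvable hL)
  obtain ⟨t, r, h1, h2, h3, -, h5⟩ := exists_of_equiv_quaternion e
  refine ⟨t, (h5 t).2 ⟨0, .inr (by simp)⟩, by rw [h1, orderOf_pow_of_dvd (by positivity) (h3 ▸ dvd_mul_left _ _), h3,
    Nat.mul_div_cancel _ (by positivity)], fun c => ?_⟩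
  rw [conj_eq_of_cent c (hQ.le ((h5 r).2 ⟨1, .inl (by simp)⟩)), eq_inv_iff_mul_eq_one, ← sq] at h2
  have := Nat.le_of_dvd two_pos (h3 ▸ orderOf_dvd_of_pow_eq_one h2)
  have := Nat.one_lt_two_pow (show m ≠ 0 by omega)
  omega

theorem O2_le (S : Sylow 2 G) : Op 2 (⊤ : Subgroup G) ≤ S :=
  pcore_sub_Hall (sylowIn_top S)

theorem exists_comp (h : CI G) (hO : Op' 2 (⊤ : Subgroup G) = ⊥) (hns : ¬ Group.IsSolvable G) :
    ∃ L : Subgroup G, CompIn L ⊤ := by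
  by_contra! n
  have hC : C[Op 2 ⊤] ≤ Op 2 (⊤ : Subgroup G) := ThA.le_O2 hO (by rw [layerIn_eq_bot_iff.2 n]; simp) le_rfl
  have := (pcore_normal {2} (⊤ : Subgroup G)).normal
  obtain ⟨P⟩ : Nonempty (Sylow 2 G) := inferInstance
  have hr : ¬ SE.Rank2 (Op 2 (⊤ : Subgroup G)) := fun r => hns (by
    have nP : (P : Subgroup G) ⊴ ⊤ := ⟨le_top, (norm_of_normal _ _).trans (h.norm_le P r (O2_le P))⟩
    exact isog_sol ⟨topEquiv⟩ (series_sol nP (pgroup_sol P.2) (SE.sol_of_odd (by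
      rw [card_quotient nP.norm]; exact pnat_odd.1 (sylowIn_top P).idx))))
  obtain ⟨x, hx⟩ : ∃ x : G, (zpowers x).relIndex (Op 2 ⊤) ∣ 2 := by
    rcases SE.cyclic_or_quaternion (Op_pgroup 2 ⊤) hr with hc | ⟨m, -, ⟨e⟩⟩
    · obtain ⟨x, hx⟩ := (Subgroup.isCyclic_iff_exists_zpowers_eq_top _).1 hc
      exact ⟨x, by rw [hx, relIndex_self]; simp⟩
    · obtain ⟨r, s, T⟩ := exists_tab_quaternion e
      exact ⟨_, T.relIndex_zpowers.dvd⟩
  obtain ⟨g, ho, hn⟩ : ∃ g : G, Odd (orderOf g) ∧ g ∉ C[Op 2 ⊤] := by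
    by_contra! h
    exact hns (isog_sol ⟨topEquiv⟩ (pgroup_sol ((ABG.isPGroup_of_odd fun g hg =>
      eq_one_of_odd_of_mem_isPGroup (Op_pgroup 2 ⊤) (hC (h g hg)) hg).to_subgroup ⊤)))
  rcases four_or_quat_of_le (Op_pgroup 2 ⊤) hx le_rfl (oddEnd_conjEnd _ (norm_of_normal _ ⊤ trivial) ho) (by
    by_contra! h
    exact hn (mem_cent.2 fun a ha => (mul_inv_eq_iff_eq_mul.1 (congrArg Subtype.val (h ⟨a, ha⟩))).symm)) with h | ⟨⟨e⟩⟩
  · obtain ⟨a, b, a2, b2, c, a1, b1, ab, hV⟩ := exists_of_isKleinFour h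
    exact hr ⟨a, (hV a).2 (by simp), b, (hV b).2 (by simp), orderOf_two_iff.2 ⟨a2, a1⟩, orderOf_two_iff.2 ⟨b2, b1⟩, ab, c⟩
  obtain ⟨i, j, q⟩ := exists_quat e
  have h6 := (threePt_quat q).dvd_six
  rw [sup_eq_left.2 hC, normalizer_eq_top, relIndex_top_right] at h6
  refine hns (FG.sol_of_two_primes Nat.prime_two Nat.prime_three fun r hr hd => ?_)
  rw [← (Op 2 (⊤ : Subgroup G)).card_mul_index, q.card] at hd
  have := hd.trans (mul_dvd_mul_left 8 h6)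
  rw [show 8 * 6 = 2 ^ 4 * 3 from rfl, hr.dvd_mul] at this
  exact this.imp (fun e => (Nat.prime_dvd_prime_iff_eq hr Nat.prime_two).1 (hr.dvd_of_dvd_pow e))
    (Nat.prime_dvd_prime_iff_eq hr Nat.prime_three).1

theorem map_simple (hL : IsQuasisimple L) (hk : π.ker ⊓ L ≤ C[L]) (hZ : Z[L] ≤ π.ker) :
    IsSimpleGroup (L.map π) ∧ ¬ IsMulCommutative (L.map π) ∧ ∀ g ∈ N[L], π g ∈ C[L.map π] → g ∈ C[L] := by
  have k : ∀ g ∈ N[L], π g ∈ C[L.map π] → g ∈ C[L] := fun g hg e => zpowers_le.1 (Gold.qs_cent hL (commutator_le.2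
    fun x hx y hy => hk ⟨show π _ = 1 by
      rw [map_commutatorElement, commutatorElement_eq_one_iff_mul_comm]
      obtain ⟨j, rfl⟩ := hy
      exact mem_cent.1 (map_zpow π g j ▸ zpow_mem e j) _ (mem_map_of_mem π hx),
      commg_subl (zpowers_le.2 hg) (commutator_mem_commutator hx hy)⟩))
  have q := qs_map hL π fun e => qs_not_le_centralizer hL ((le_inf ((Subgroup.map_eq_bot_iff _).1 e) le_rfl).trans hk)
  refine ⟨qs_simple_of_center_eq_bot q ?_, qs_not_isMulCommutative q, k⟩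
  rw [← Subgroup.map_eq_bot_iff_of_injective _ (subtype_injective _), map_subtype_center, eq_bot_iff]
  rintro _ ⟨⟨x, hx, rfl⟩, m⟩
  exact hZ ⟨hx, k x (normG L hx) m⟩

structure K1 (L : Subgroup G) (z : G) (π : G →* Y) : Prop where
  ci : CI G
  nl : L.Normal
  qs : IsQuasisimple L
  z2 : orderOf z = 2
  zc : ∀ g, Commute z g
  zR : z ∈ Op 2 (⊤ : Subgroup G)
  u1 : U1 (Op 2 ⊤) z
  RC : Op 2 ⊤ ≤ π.ker
  sj : Function.Surjective π
  ker : π.ker = C[L]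
  hC : ∀ P : Sylow 2 G, π.ker ≤ N[(P : Subgroup G)]

namespace K1
variable (h : K1 L z π)
include h

theorem CR (hc : c ∈ (S : Subgroup G)) (e : π c = 1) : c ∈ Op 2 (⊤ : Subgroup G) :=
  pcoreS_normal {2} (normal_top π.ker) (pcore_max
    (N := (S : Subgroup G) ⊓ π.ker) ⟨inf_le_right, normsI (h.hC S) (normG _)⟩ (S.2.to_le inf_le_left).pi ⟨hc, e⟩)

theorem lift (hc : IsPGroup 2 (zpowers c)) (e : π c ∈ (S : Subgroup G).map π) : c ∈ (S : Subgroup G) := by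
  rw [← mem_comap, comap_map_eq] at e
  exact zpowers_le.1 (le_sylow hc (zpowers_le.2 (sup_le (normG _) (h.hC S) e)))

theorem ord (t2 : t * t = 1) (t1 : t ≠ 1) (tz : t ≠ z) : orderOf (π t) = 2 ∧ UN (π t) := by
  refine ⟨orderOf_two_iff.2 ⟨by rw [← map_mul, t2, map_one], fun e => ?_⟩, fun P Q hP hQ => ?_⟩
  · obtain ⟨P, hP⟩ := (pg_invol t2).exists_le_sylow
    exact (h.u1 t (h.CR (hP (mem_zpowers t)) e) t2).elim t1 tz
  obtain ⟨P, rfl⟩ := Sylow.mapSurjective_surjective h.sj 2 P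
  obtain ⟨Q, rfl⟩ := Sylow.mapSurjective_surjective h.sj 2 Q
  rw [h.ci P Q ⟨z, ⟨O2_le P h.zR, O2_le Q h.zR⟩, t, ⟨h.lift (pg_invol t2) hP, h.lift (pg_invol t2) hQ⟩, h.z2,
    orderOf_two_iff.2 ⟨t2, t1⟩, tz.symm, h.zc t⟩]

theorem ex {y : Y} (h1 : y ∈ L.map π) (h2 : y ∈ (S : Subgroup G).map π) : ∃ u ∈ L ⊓ S, π u = y := by
  obtain ⟨x, hx, e⟩ := exists_lift_elt (π.subgroupMap_surjective L) (y := ⟨y, h1⟩) (p := 2) (by
    rw [pg_zpowers_iff, orderOf_mk, ← pg_zpowers_iff]; exact (S.2.map π).to_le (zpowers_le.2 h2))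
  rw [pg_zpowers_iff, ← orderOf_coe, ← pg_zpowers_iff] at hx
  replace e : π x = y := congrArg Subtype.val e
  exact ⟨x, ⟨x.2, h.lift hx (e ▸ h2)⟩, e⟩

theorem sp : IsSimpleGroup (L.map π) ∧ ¬ IsMulCommutative (L.map π) ∧ C[L.map π] = ⊥ := by
  haveI := h.nl
  obtain ⟨h1, h2, h3⟩ := map_simple (π := π) h.qs (h.ker ▸ inf_le_left) (h.ker ▸ inf_le_right)
  refine ⟨h1, h2, eq_bot_iff.2 fun y hy => ?_⟩
  obtain ⟨y, rfl⟩ := h.sj y
  exact h.ker.ge (h3 y (norm_of_normal L ⊤ trivial) hy)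

theorem four (l : A ≤ S) (hA : U1 A z) (lR : Op 2 ⊤ ≤ A) (hu : u ∈ A ⊓ L) (hg : g ∈ L) (hd : g * u * g⁻¹ ∈ A)
    (u2 : orderOf (π u) = 2) (ne : π u ≠ π (g * u * g⁻¹))
    (hc : ∀ c ∈ A, Commute (π c) (π u) ∧ Commute (π c) (π (g * u * g⁻¹))) (m : c ∈ A) :
    π c = 1 ∨ π c = π u ∨ π c = π (g * u * g⁻¹) ∨ π c = π u * π (g * u * g⁻¹) := by
  have zz := mul_self_of h.z2
  have lz : Op 2 ⊤ ≤ zpowers z := by_contra fun n => by
    obtain ⟨r, hr, e⟩ := h.u1.four (Op_pgroup 2 ⊤) zz n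
    have c0 : u * u ∈ C[L] := h.ker.le (show π _ = 1 by rw [map_mul, mul_self_of u2])
    have dL : g * u * g⁻¹ ∈ L := mul_mem (mul_mem hg hu.2) (inv_mem hg)
    have dd : g * u * g⁻¹ * (g * u * g⁻¹) = u * u := by rw [conj_mul, mem_cent.1 c0 g hg, mul_inv_cancel_right]
    generalize g * u * g⁻¹ = d at *
    have c1 : ⁅u, d⁻¹⁆ ∈ C[L] := h.ker.le (show π _ = 1 by
      rw [map_commutatorElement, map_inv]; exact commutatorElement_eq_one_iff_commute.2 (hc u hu.1).2.inv_right)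
    have c2 : ⁅u, d⁻¹⁆ * ⁅u, d⁻¹⁆ = 1 := by
      rw [← sq, ← ASI.pow_cent (cent_le_cent1 hu.2 c1), sq]
      exact commutatorElement_eq_one_iff_mul_comm.2 (mem_cent.1 c0 _ (inv_mem dL)).symm
    have e1 : u * d⁻¹ * (u * d⁻¹) = ⁅u, d⁻¹⁆⁻¹ := by
      calc _ = u * ⁅u, d⁻¹⁆⁻¹ * u * (d * d)⁻¹ := by rw [commutatorElement_def]; group
        _ = _ := by rw [mem_cent.1 (inv_mem c1) u hu.2, dd]; group
    have hy := A.mul_mem hu.1 (inv_mem hd)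
    have y1 : ∀ r ∈ Op 2 (⊤ : Subgroup G), u * d⁻¹ * r = 1 ∨ u * d⁻¹ * r = z → False := fun r hr e => ne (by
      have : π (u * d⁻¹ * r) = 1 := e.elim (fun e => e ▸ map_one π) fun e => e ▸ h.RC h.zR
      rwa [map_mul, h.RC hr, mul_one, map_mul, map_inv, mul_inv_eq_one] at this)
    have e2 := (hA _ (mul_mem hy hy) (by rw [e1, ← mul_inv_rev, c2, inv_one])).resolve_left fun e =>
      y1 1 (one_mem _) (by simpa using hA _ hy e)
    exact y1 r hr (hA _ (mul_mem hy (lR hr)) (by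
      rw [(show Commute r (u * d⁻¹) from (mem_cent.1 (h.ker.le (h.RC hr)) _ (mul_mem hu.2 (inv_mem dL))).symm).mul_mul_mul_comm,
        e2, e, zz]))
  exact hA.lq (S.2.to_le l) h.z2 h.zc π (fun x hx => ⟨fun e => (Invol.mem_zpowers_invol zz).1 (lz (h.CR (l hx) e)),
    fun e => e.elim (fun e => e ▸ map_one π) fun e => e ▸ h.RC h.zR⟩) hu.1 hd u2 (by
      rw [map_mul, map_mul, map_inv, Invol.orderOf_conj', u2]) ne hc m

theorem sc (ht : t ∈ (S : Subgroup G)) (t2 : t * t = 1) (t1 : t ≠ 1) (tz : t ≠ z) {u g : Y} (hu : u ∈ L.map π)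
    (hz : u ∈ Z[(S : Subgroup G).map π]) (u2 : orderOf u = 2) (hg : g ∈ L.map π)
    (hd : g * u * g⁻¹ ∈ (S : Subgroup G).map π) : g * u * g⁻¹ ∈ C[(S : Subgroup G).map π] := by_contra fun nd => by
  haveI := h.nl
  haveI : (L.map π).Normal := h.nl.map π h.sj
  obtain ⟨_, hna, -⟩ := h.sp
  obtain ⟨u, hu', rfl⟩ := h.ex hu hz.1
  replace hu := hu'
  obtain ⟨g, hg, rfl⟩ := hg
  have ed : π g * π u * (π g)⁻¹ = π (g * u * g⁻¹) := by simp
  have dS : g * u * g⁻¹ ∈ (S : Subgroup G) := h.lift (cj_zpowers g u ▸ (S.2.to_le (zpowers_le.2 hu.2)).cj g) (ed ▸ hd)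
  refine mc_kill (S := S.mapSurjective h.sj) hna hz (mem_map_of_mem π hu.1) u2 hd nd ?_ (mem_map_of_mem π ht)
    (h.ord t2 t1 tz).1 (h.ord t2 t1 tz).2
  rintro _ ⟨c, hc, rfl⟩ e
  rw [ed] at e nd ⊢
  refine h.four (A := S ⊓ C1[π (g * u * g⁻¹)].comap π) inf_le_left (fun t ht t2 => by_contra fun n => nd (ed ▸
    (h.ord t2 (fun e => n (.inl e)) fun e => n (.inr e)).2.cent (S := S.mapSurjective h.sj) (mem_map_of_mem π ht.1) hz.2
      (ed ▸ mem_cent1.1 ht.2))) (le_inf (O2_le S) fun r hr => ?_) ⟨⟨hu.2, mem_cent1.2 ?_⟩, hu.1⟩ hg ⟨dS, mem_cent1.2 rfl⟩ u2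
    (fun e => nd (e ▸ hz.2)) (fun c hc => ⟨mem_cent.1 hz.2 _ (mem_map_of_mem π hc.1), mem_cent1.1 hc.2⟩) ⟨hc, mem_cent1.2 e⟩
  · exact mem_comap.2 (h.RC hr ▸ one_mem _)
  · exact (mem_cent.1 hz.2 _ (mem_map_of_mem π dS)).symm

theorem main (hr : SE.Rank2 (S : Subgroup G)) : (∀ u ∈ L.map π, orderOf u = 2 → UN u) ∧ TIS (L.map π) ∧
    (S : Subgroup G) ≤ L ⊔ Op 2 ⊤ := by
  haveI := h.nl
  haveI : (L.map π).Normal := h.nl.map π h.sj
  obtain ⟨_, hna, hC⟩ := h.sp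
  obtain ⟨t, ht, t2, t1, tz⟩ : ∃ t ∈ (S : Subgroup G), t * t = 1 ∧ t ≠ 1 ∧ t ≠ z := by
    obtain ⟨a, ha, b, hb, a2, b2, ne, -⟩ := hr
    by_cases e : a = z
    exacts [⟨b, hb, mul_self_of b2, ne_one_of b2, fun r => ne (e.trans r.symm)⟩, ⟨a, ha, mul_self_of a2, ne_one_of a2, e⟩]
  set S' := S.mapSurjective h.sj
  obtain ⟨T, hT⟩ := Transfer.isSylowIn_iff_exists_sylow.1 (Transfer.isSylowIn_sylow_inf_normal S' (L.map π))
  have eT : (T : Subgroup (L.map π)) = (S' : Subgroup Y).subgroupOf _ := by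
    rw [← inf_subgroupOf_right, ← hT, subgroupOf, comap_map_eq_self_of_injective (subtype_injective _)]
  have hi : ∀ a ∈ Z[(S' : Subgroup Y)], ∀ b ∈ Z[(S' : Subgroup Y)], a * a = 1 → b * b = 1 → Commute a b :=
    fun a ha b hb _ _ => mem_cent.1 hb.2 a ha.1
  obtain ⟨a, ha, b, hb, a2, b2, ab, -⟩ := rank2_map hna S'
  obtain ⟨w, hw, w2⟩ := exists_invol_of_pgroup (S'.isPGroup'.to_le (inf_le_left.trans inf_le_left)) (meet_center_nil
    (pgroup_nil S'.isPGroup') (normalGI le_top (normal_top (L.map π))) fun e => ne_one_of a2 (mem_bot.1 (e ▸ ha)))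
  haveI := omega_comm hi
  have kn := Gold.kn_of_closed hna T (A := (omegaOne 2 Z[(S' : Subgroup Y)]).subgroupOf _) (trivgPn.2 ⟨⟨w, hw.1.2⟩,
    (mem_omega_iff hi).2 ⟨hw.2, mul_self_of w2⟩, fun e => ne_one_of w2 (congrArg Subtype.val e)⟩) inferInstance
    ⟨fun x hx => eT.ge ((mem_omega_iff hi).1 hx).1.1, fun x hx g m => by
      obtain ⟨h1, h2⟩ := (mem_omega_iff hi).1 hx
      rcases eq_or_ne (x : Y) 1 with e | e
      · rw [show x = 1 from Subtype.ext e, mul_one, mul_inv_cancel]; exact one_mem _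
      exact (mem_omega_iff hi).2 ⟨⟨eT.le m, h.sc ht t2 t1 tz x.2 h1 (orderOf_two_iff.2 ⟨h2, e⟩) g.2 (eT.le m)⟩, by
        show (g : Y) * x * (g : Y)⁻¹ * ((g : Y) * x * (g : Y)⁻¹) = 1
        rw [conj_mul, show (x : Y) * x = 1 from h2]; simp⟩⟩
  have cj : ∀ a ∈ L.map π, orderOf a = 2 → ∀ b ∈ L.map π, orderOf b = 2 → ∃ g ∈ L, π g * a * (π g)⁻¹ = b :=
    fun a ha a2 b hb b2 => by
      obtain ⟨⟨_, g, hg, rfl⟩, e⟩ := isConj_iff.1 (ThA.kn_conj hna kn (x := ⟨a, ha⟩) (y := ⟨b, hb⟩) (by rwa [orderOf_mk])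
        (by rwa [orderOf_mk]))
      exact ⟨g, hg, congrArg Subtype.val e⟩
  have fin : (S' : Subgroup Y) ≤ L.map π → (S : Subgroup G) ≤ L ⊔ Op 2 ⊤ := fun l s hs => by
    obtain ⟨q, hq, e⟩ := h.ex (l (mem_map_of_mem π hs)) (mem_map_of_mem π hs)
    simpa using mul_mem_sup hq.1 (h.CR (mul_mem (inv_mem hq.2) hs) (by simp [e]))
  have mp : ∀ c ∈ L ⊔ Op 2 ⊤, π c ∈ L.map π := fun c hc => by
    have := mem_map_of_mem π hc
    rwa [Subgroup.map_sup, (Subgroup.map_eq_bot_iff _).2 h.RC, sup_bot_eq] at this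
  by_cases hU : U1 ((S : Subgroup G) ⊓ (L ⊔ Op 2 ⊤)) z
  · have h0 : ∀ a ∈ (S' : Subgroup Y) ⊓ L.map π, orderOf a = 2 → a ∈ C[(S' : Subgroup Y)] := fun a ha a2 => by
      obtain ⟨g, hg, rfl⟩ := cj w hw.1.2 w2 a ha.2 a2
      exact h.sc ht t2 t1 tz hw.1.2 hw.2 w2 (mem_map_of_mem π hg) ha.1
    obtain ⟨g, hg, rfl⟩ := cj a ha.2 a2 b hb.2 b2
    obtain ⟨a, ha', rfl⟩ := h.ex ha.2 ha.1
    have ed : π g * π a * (π g)⁻¹ = π (g * a * g⁻¹) := by simp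
    rw [ed] at hb b2 ab
    refine ((hU t ⟨ht, fin (le_of_cent hna hC (cents_symm fun y hy => ?_)) ht⟩ t2).elim t1 tz).elim
    obtain ⟨c, hc, rfl⟩ := h.ex hy.1 hy.2
    rcases h.four inf_le_left hU (le_inf (O2_le S) le_sup_right) ⟨⟨ha'.2, mem_sup_left ha'.1⟩, ha'.1⟩ hg
      ⟨h.lift (cj_zpowers g a ▸ (S.2.to_le (zpowers_le.2 ha'.2)).cj g) hb.1,
        mem_sup_left (mul_mem (mul_mem hg ha'.1) (inv_mem hg))⟩ a2 ab
      (fun c hc => ⟨mem_cent.1 (h0 _ ha a2) _ (mem_map_of_mem π hc.1), mem_cent.1 (h0 _ hb b2) _ (mem_map_of_mem π hc.1)⟩)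
      ⟨hc.2, mem_sup_left hc.1⟩ with e | e | e | e <;> rw [e]
    exacts [one_mem _, h0 _ ha a2, h0 _ hb b2, mul_mem (h0 _ ha a2) (h0 _ hb b2)]
  simp only [U1, not_forall, not_or] at hU
  obtain ⟨v, hv, v2, v1, vz⟩ := hU
  have un : ∀ u ∈ L.map π, orderOf u = 2 → UN u := fun u hu u2 => by
    obtain ⟨g, -, rfl⟩ := cj _ (mp v hv.2) (h.ord v2 v1 vz).1 u hu u2
    exact (h.ord v2 v1 vz).2.conj _
  exact ⟨un, (un_struct (S := S') hna hC un).imp_right fin⟩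

end K1
end Cfsg.Agent.RI
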