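import Cfsg.Agent.LieM.Gold9
import Cfsg.Agent.ThA.As
import Cfsg.Agent.Gold.All
import Cfsg.Agent.PGrp.MaxClass

/-! Sylow 2-intersections of rank one: elements in a unique Sylow subgroup (`UN`), groups with a unique involution
(`U1`), the maximal class argument `mc_kill`. -/
set_option autoImplicit false
set_option linter.unusedSectionVars false
open Subgroup Cfsg Cfsg.Agent.BG Cfsg.Agent.Invol Cfsg.Agent.LieM
open scoped commutatorElement

namespace Cfsg.Agent.RI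
variable {G Y : Type*} [Group G] [Finite G] [Group Y] [Finite Y] {A L : Subgroup G} {c d g t u y z : G} {S : Sylow 2 G}

def UN (y : G) : Prop := ∀ P Q : Sylow 2 G, y ∈ (P : Subgroup G) → y ∈ (Q : Subgroup G) → P = Q

def U1 (A : Subgroup G) (z : G) : Prop := ∀ t ∈ A, t * t = 1 → t = 1 ∨ t = z

theorem UN.conj (h : UN y) (g : G) : UN (g * y * g⁻¹) := fun P Q hP hQ =>
  MulAction.injective (MulAut.conj g⁻¹) (h _ _ (mem_cj_inv.2 hP) (mem_cj_inv.2 hQ))

theorem UN.norm (h : UN y) (hy : y ∈ (S : Subgroup G)) (hg : g * y * g⁻¹ ∈ (S : Subgroup G)) : g ∈ N[(S : Subgroup G)] :=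
  BG.mem_norm.2 (congrArg (fun R : Sylow 2 G => (R : Subgroup G)) (h.conj g (MulAut.conj g • S) S (conj_mem_cj g hy) hg))

theorem UN.le (h : UN y) (hy : y ∈ (S : Subgroup G)) (hA : IsPGroup 2 A) (m : y ∈ A) : A ≤ S :=
  let ⟨T, hT⟩ := hA.exists_le_sylow
  h T S (hT m) hy ▸ hT

theorem UN.comm (h : UN y) (hy : y ∈ (S : Subgroup G)) (e : t * t = 1) (c : Commute t y) : t ∈ (S : Subgroup G) :=
  h.le hy (pgroup_sup (.inr (cents_norm (zpowers_le.2 (C_zpowers t ▸ mem_cent1.2 c.symm.eq))))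
    (pg_zpowers_iff.2 (((Nat.dvd_prime_pow Nat.prime_two (i := orderOf t) (m := 1)).1
      (orderOf_dvd_of_pow_eq_one (by simpa [sq]))).imp fun _ => And.right))
    (S.2.to_le (zpowers_le.2 hy))) (mem_sup_right (mem_zpowers y)) (mem_sup_left (mem_zpowers t))

theorem UN.cent (h : UN y) (hy : y ∈ (S : Subgroup G)) (hu : u ∈ C[(S : Subgroup G)]) (c : Commute y (g * u * g⁻¹)) :
    g * u * g⁻¹ ∈ C[(S : Subgroup G)] := by
  have m : g * u * g⁻¹ ∈ C[cj g (S : Subgroup G)] := C_cj g _ ▸ conj_mem_cj g hu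
  obtain ⟨k, hk, e⟩ := Sylow_subJ (pHall_subl (le_cent1_iff.2 m) le_top (pHallJsub (mem_top g) (sylowIn_top S)))
    (zpowers_le.2 (mem_cent1.2 c.eq)) (S.2.to_le (zpowers_le.2 hy))
  have e1 : cj k (cj g (S : Subgroup G)) = S := congrArg (fun R : Sylow 2 G => (R : Subgroup G))
    (h (MulAut.conj k • MulAut.conj g • S) S (e (mem_zpowers y)) hy)
  rw [← e1, C_cj, ← mul_inv_eq_iff_eq_mul.2 (mem_cent1.1 hk)]
  exact conj_mem_cj k m

theorem card_le_four {a b : G} (h : ∀ c ∈ A, c = 1 ∨ c = a ∨ c = b ∨ c = a * b) : #A ≤ 4 := by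
  classical
  have : (A : Set G) ⊆ ({1, a, b, a * b} : Finset G) := fun c hc => by simpa using h c hc
  exact (Set.ncard_le_ncard this).trans (Set.ncard_coe_finset _ ▸ Finset.card_le_four)

theorem mc_kill [L.Normal] [IsSimpleGroup L] (hna : ¬ IsMulCommutative L) (hu : u ∈ Z[(S : Subgroup G)]) (uL : u ∈ L)
    (u2 : orderOf u = 2) (hd : g * u * g⁻¹ ∈ (S : Subgroup G)) (nd : g * u * g⁻¹ ∉ C[(S : Subgroup G)])
    (h4 : ∀ c ∈ (S : Subgroup G), Commute c (g * u * g⁻¹) → c = 1 ∨ c = u ∨ c = g * u * g⁻¹ ∨ c = u * (g * u * g⁻¹))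
    (ht : t ∈ (S : Subgroup G)) (t2 : orderOf t = 2) (un : UN t) : False := by
  have nu : ¬ IsConj t u := fun e => by
    obtain ⟨k, rfl⟩ := isConj_iff.1 e
    exact nd (conj_mem_of_norm (norms_cent le_rfl ((un.conj k).norm hu.1 hd)) hu.2)
  obtain ⟨a, x, n, h⟩ := PGrp.isMC_of_card_centralizer S.2 (fun e => nd (abelian_iff.1 e hd)) ⟨_, hd⟩
    (card_le_four (a := ⟨u, hu.1⟩) (b := ⟨_, hd⟩) fun c hc => by
      simp only [Subtype.ext_iff]; exact h4 c c.2 (congrArg Subtype.val (mem_cent1.1 hc)))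
  have eu : (⟨u, hu.1⟩ : S.1) = a ^ 2 ^ (n - 1) := ((mem_zpowers_invol (by rw [← sq, h.z_sq])).1 (h.center_eq.le
    (mem_center_iff.2 fun y => Subtype.ext (mem_cent.1 hu.2 y y.2)))).resolve_left
      fun e => ne_one_of u2 (congrArg Subtype.val e)
  have nt : (⟨t, ht⟩ : S.1) ∉ zpowers a := fun m => nu (by
    rw [show t = u from congrArg Subtype.val ((h.eq_z_of_sq m (fun e => ne_one_of t2 (congrArg Subtype.val e))
      (Subtype.ext (by simpa [sq] using mul_self_of t2))).trans eu.symm)])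
  have k1 : UN (t * u) := by
    obtain ⟨v, hv, e, -⟩ := h.exists_k
    rw [← h.conj_eq nt] at e
    obtain ⟨m, rfl⟩ := Nat.exists_eq_add_of_le' h.two_le
    have e1 : a ^ (2 * v * 2 ^ m) = ⟨u, hu.1⟩ := eu ▸ (h.eq_of_dvd ⟨v, by simp [pow_succ]; ring⟩).resolve_left fun r => by
      have := h.zpow_eq_one.1 r
      rw [show 2 * v * 2 ^ m = v * 2 ^ (m + 1) by ring, pow_succ' _ (m + 1)] at this
      exact Int.not_even_iff_odd.2 hv (even_iff_two_dvd.2 <| Int.dvd_of_mul_dvd_mul_right (by positivity) this)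
    have e2 : (a ^ (2 ^ m : ℤ))⁻¹ * ⟨t, ht⟩ * a ^ (2 ^ m : ℤ) = ⟨u, hu.1⟩ * ⟨t, ht⟩ := by
      rw [← e1, show 2 * v * 2 ^ m = -2 ^ m + (2 * v + 1) * 2 ^ m by ring, zpow_add, zpow_mul, ← e, conj_zpow]; group
    have := un.conj ((a : G) ^ (2 ^ m : ℤ))⁻¹
    rwa [inv_inv, show ((a : G) ^ (2 ^ m : ℤ))⁻¹ * t * (a : G) ^ (2 ^ m : ℤ) = u * t from congrArg Subtype.val e2,
      ← mem_cent.1 hu.2 t ht] at this
  have k2 : ∀ k, Commute u (k * u * k⁻¹) := fun k => by
    have v2 : k * u * k⁻¹ * (k * u * k⁻¹) = 1 := by rw [conj_mul, mul_self_of u2]; simp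
    have K : ∀ y ∈ (S : Subgroup G), UN y → Commute y (k * u * k⁻¹) → Commute u (k * u * k⁻¹) := fun y hy un c =>
      (mem_cent.1 hu.2 _ (un.comm hy v2 c.symm)).symm
    obtain ⟨j, w2, c1, c2⟩ := exists_commute_of_not_isConj (mul_self_of t2) v2 fun e => nu (e.trans (isConj_conj k u).symm)
    have hw := un.comm ht (mul_self_of w2) c1
    have := h.commute_cases nt (g := ⟨_, hw⟩) (Subtype.ext c1.symm.eq)
    simp only [← eu, Subtype.ext_iff, coe_mul, coe_one] at this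
    rcases this with e | e | e | e <;> rw [e] at c2 w2
    · simp at w2
    · exact c2
    · exact K _ ht un c2
    · exact K _ (mul_mem ht hu.1) k1 c2
  haveI : (L ⊓ normalClosure {u}).Normal := inferInstance
  have e : (normalClosure {u}).subgroupOf L = ⊤ := (IsSimpleGroup.eq_bot_or_eq_top_of_normal _ inferInstance).resolve_left
    (trivgPn.2 ⟨⟨u, uL⟩, subset_normalClosure rfl, fun e => ne_one_of u2 (congrArg Subtype.val e)⟩)
  have l : normalClosure {u} ≤ C1[u] := (closure_le _).2 fun x hx => by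
    obtain ⟨_, rfl, r⟩ := Group.mem_conjugatesOfSet_iff.1 hx
    obtain ⟨k, rfl⟩ := isConj_iff.1 r
    exact mem_cent1.2 (k2 k).symm
  exact ne_one_of u2 (congrArg Subtype.val (mem_bot.1 ((center_simple hna).le (mem_center_iff.2 fun x =>
    Subtype.ext (mem_cent1.1 (l (e.ge (mem_top x)))) : (⟨u, uL⟩ : L) ∈ _))))

theorem U1.mono {B : Subgroup G} (h : U1 A z) (l : B ≤ A) : U1 B z := fun t ht => h t (l ht)

theorem u1_of (h : ¬ SE.Rank2 A) (hz : z ∈ A) (z2 : orderOf z = 2) (c : ∀ g, Commute z g) : U1 A z := fun t ht e =>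
  by_contra fun n => h ⟨z, hz, t, ht, z2, orderOf_two_iff.2 ⟨e, fun r => n (.inl r)⟩, fun r => n (.inr r.symm), c t⟩

theorem U1.four (h : U1 A z) (hA : IsPGroup 2 A) (z2 : z * z = 1) (n : ¬ A ≤ zpowers z) : ∃ r ∈ A, r * r = z := by
  obtain ⟨a, ha, n⟩ := SetLike.not_le_iff_exists.1 n
  obtain ⟨k, hk⟩ := hA ⟨a, ha⟩
  obtain ⟨j, h1, h2⟩ := PLocal.exists_pow_not_mem (p := 2) (k := k) n
    (by rw [show a ^ 2 ^ k = 1 from congrArg Subtype.val hk]; exact one_mem _)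
  rw [sq, mem_zpowers_invol z2] at h2
  exact ⟨_, pow_mem ha _, h2.resolve_left fun e => h1 ((mem_zpowers_invol z2).2 (h _ (pow_mem ha _) e))⟩

theorem U1.lq (h : U1 A z) (hA : IsPGroup 2 A) (z2 : orderOf z = 2) (zc : ∀ g, Commute z g) (π : G →* Y)
    (hk : ∀ x ∈ A, π x = 1 ↔ x = 1 ∨ x = z) (hu : u ∈ A) (hd : d ∈ A) (u2 : orderOf (π u) = 2) (d2 : orderOf (π d) = 2)
    (ne : π u ≠ π d) (hc : ∀ c ∈ A, Commute (π c) (π u) ∧ Commute (π c) (π d)) (m : c ∈ A) :
    π c = 1 ∨ π c = π u ∨ π c = π d ∨ π c = π u * π d := by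
  have zz := mul_self_of z2
  have sq : ∀ x ∈ A, π x * π x = 1 → π x ≠ 1 → x * x = z := fun x hx e n =>
    ((hk _ (mul_mem hx hx)).1 (by rwa [map_mul])).resolve_left fun r => n ((hk _ hx).2 (h x hx r))
  have uu := mul_self_of u2
  have dd := mul_self_of d2
  have eu := sq u hu uu (ne_one_of u2)
  have nc : ¬ Commute u d := fun c => ne_one_of z2 (by
    rw [← sq _ (mul_mem hu hd) (by rw [map_mul, (hc d hd).1.mul_mul_mul_comm, uu, dd, one_mul]) (fun e => ne (by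
      rw [map_mul, mul_eq_one_iff_eq_inv, inv_eq_of d2] at e; exact e)), c.symm.mul_mul_mul_comm, eu,
      sq d hd dd (ne_one_of d2), zz])
  have K : ∀ c ∈ A, Commute c u → Commute c d → π c = 1 := fun c m c1 c2 => (hk c m).2 ((mem_zpowers_invol zz).1 (by
    by_contra n
    obtain ⟨r, hr, e⟩ := (h.mono (inf_le_left : A ⊓ (C1[u] ⊓ C1[d]) ≤ A)).four (hA.to_le inf_le_left) zz
      fun l => n (l ⟨m, mem_cent1.2 c1, mem_cent1.2 c2⟩)
    have c3 : Commute r d := mem_cent1.1 hr.2.2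
    have := h _ (mul_mem hr.1 hu) (by rw [(show Commute r u from mem_cent1.1 hr.2.1).symm.mul_mul_mul_comm, e, eu, zz])
    refine nc (by
      rw [← inv_mul_cancel_left r u]
      exact c3.inv_left.mul_left (this.elim (fun e => e ▸ Commute.one_left d) fun e => e ▸ zc d))))
  have cs : ∀ c ∈ A, ∀ x ∈ A, Commute (π c) (π x) → c * x = x * c ∨ c * x = z * (x * c) := fun c m x hx e =>
    ((hk _ (mul_mem (mul_mem m hx) (inv_mem (mul_mem hx m)))).1 (by simp [e.eq])).imp mul_inv_eq_one.1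
      mul_inv_eq_iff_eq_mul.1
  have e1 := (cs u hu d hd (hc u hu).2).resolve_left nc
  have e2 := (cs d hd u hu (hc d hd).1).resolve_left fun e => nc e.symm
  have zi : ∀ x, z * (z * x) = x := fun x => by rw [← mul_assoc, zz, one_mul]
  have zm : ∀ x y, x * (z * y) = z * (x * y) := fun x y => by rw [← mul_assoc, ← (zc x).eq, mul_assoc]
  have fin : ∀ b, π b * π b = 1 → π (c * b) = 1 → π c = π b := fun b e r => by
    rw [map_mul, ← e] at r; exact mul_right_cancel r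
  rcases cs c m u hu (hc c m).1 with f1 | f1 <;> rcases cs c m d hd (hc c m).2 with f2 | f2
  · exact .inl (K c m f1 f2)
  · refine .inr (.inl (fin u uu (K _ (mul_mem m hu) (Commute.mul_left f1 rfl) ?_)))
    show c * u * d = d * (c * u)
    rw [mul_assoc, e1, zm, ← mul_assoc c, f2, mul_assoc, zi, mul_assoc]
  · refine .inr (.inr (.inl (fin d dd (K _ (mul_mem m hd) ?_ (Commute.mul_left f2 rfl)))))
    show c * d * u = u * (c * d)
    rw [mul_assoc, e2, zm, ← mul_assoc c, f1, mul_assoc, zi, mul_assoc]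
  · refine .inr (.inr (.inr (map_mul π u d ▸ fin (u * d) (by
      rw [map_mul, (hc d hd).1.mul_mul_mul_comm, uu, dd, one_mul]) (K _ (mul_mem m (mul_mem hu hd)) ?_ ?_))))
    · show c * (u * d) * u = u * (c * (u * d))
      rw [mul_assoc, mul_assoc, e2, zm, zm, ← mul_assoc c, f1, mul_assoc, zi, mul_assoc]
    · show c * (u * d) * d = d * (c * (u * d))
      conv_lhs => rw [e1, zm, ← mul_assoc c, f2, mul_assoc z (d * c), zi]
      simp only [mul_assoc]

theorem le_of_cent [L.Normal] [IsSimpleGroup L] (hna : ¬ IsMulCommutative L) (hC : C[L] = ⊥)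
    (h : (S : Subgroup G) ≤ C[L ⊓ S]) : (S : Subgroup G) ≤ L := by
  have := ThA.inner_of hna (Sylow_setI_normal (normal_top L) (sylowIn_top S)) (inf_le_right.trans h) S.2
    (norm_of_normal L _) h
  rw [hC, sup_bot_eq] at this
  exact this.trans inf_le_left

/-- All involutions of `L` lie in a unique Sylow subgroup. -/
theorem un_struct [L.Normal] [IsSimpleGroup L] (hna : ¬ IsMulCommutative L) (hC : C[L] = ⊥)
    (h : ∀ u ∈ L, orderOf u = 2 → UN u) : TIS L ∧ (S : Subgroup G) ≤ L := by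
  have ti : TIS L := fun P Q u u1 hP hQ => by
    obtain ⟨v, hv, v2⟩ := exists_invol_mem_of_isPGroup (P.isPGroup'.to_le (zpowers_le.2 hP)) (by simpa)
    obtain ⟨P', hP'⟩ := P.exists_comap_subtype_eq
    obtain ⟨Q', hQ'⟩ := Q.exists_comap_subtype_eq
    obtain rfl := h v v.2 (by rwa [orderOf_coe]) P' Q' (hP'.ge (zpowers_le.2 hP hv)) (hQ'.ge (zpowers_le.2 hQ hv))
    exact Sylow.ext (hP'.symm.trans hQ')
  obtain ⟨T, hT⟩ := Transfer.isSylowIn_iff_exists_sylow.1 (Transfer.isSylowIn_sylow_inf_normal S L)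
  have eT : (T : Subgroup L) = (S : Subgroup G).subgroupOf L := by
    rw [← inf_subgroupOf_right, ← hT, subgroupOf, comap_map_eq_self_of_injective L.subtype_injective]
  obtain ⟨z, hz, z2⟩ := exists_invol_of_pgroup (S.isPGroup'.to_le (inf_le_left.trans inf_le_left)) (meet_center_nil
    (pgroup_nil S.isPGroup') (normalGI le_top (normal_top L)) fun e => by
      obtain ⟨u, hu, -, -, u2, -⟩ := rank2_map hna S
      exact ne_one_of u2 (mem_bot.1 (e ▸ hu)))
  have hn : ∀ d ∈ N[(T : Subgroup L)], (d : G) ∈ N[(S : Subgroup G)] := fun d hd =>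
    (h z hz.1.2 z2).norm hz.1.1 (eT.le (conj_mem_of_norm hd (eT.ge (show (⟨z, hz.1.2⟩ : L) ∈ _ from hz.1.1))))
  have h0 : ∀ u ∈ (T : Subgroup L), u * u = 1 → (u : G) ∈ C[(S : Subgroup G)] := fun u hu e => by
    rcases eq_or_ne u 1 with rfl | u1
    · exact one_mem _
    obtain ⟨g, rfl⟩ := isConj_iff.1 (SE.isConj (ti.se hna T) (a := ⟨z, hz.1.2⟩) (by rwa [orderOf_mk])
      (orderOf_two_iff.2 ⟨e, u1⟩))
    exact conj_mem_of_norm (norms_cent le_rfl ((h z hz.1.2 z2).norm hz.1.1 (eT.le hu))) hz.2.2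
  obtain ⟨t, ht⟩ := ti.hyp hna T
  refine ⟨ti, ?_⟩
  by_cases hc : Rank1.Comm (T : Subgroup L)
  · exact le_of_cent hna hC (cents_symm fun x hx => h0 ⟨x, hx.1⟩ (eT.ge hx.2) (AB.hyp_elem ht hc _ (eT.ge hx.2)))
  · exact le_of_HN hC S.2 ⟨ht, ‹_›, hc⟩ eT hn h0

end Cfsg.Agent.RI
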